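/-
Conclusion of a coset enumeration: the index of the subgroup of the first three generators is at most 1463.
-/
import Cfsg.Agent.Lib.J1Unique.Index
import Cfsg.Agent.Lib.J1Unique.CertT.Facts0
import Cfsg.Agent.Lib.J1Unique.CertT.Facts1
import Cfsg.Agent.Lib.J1Unique.CertT.Facts2
import Cfsg.Agent.Lib.J1Unique.CertT.Facts3
import Cfsg.Agent.Lib.J1Unique.CertT.Facts4
import Cfsg.Agent.Lib.J1Unique.CertT.Facts5
import Cfsg.Agent.Lib.J1Unique.CertT.Facts6
import Cfsg.Agent.Lib.J1Unique.CertT.Facts7
import Cfsg.Agent.Lib.J1Unique.CertT.Facts8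
import Cfsg.Agent.Lib.J1Unique.CertT.Facts9
import Cfsg.Agent.Lib.J1Unique.CertT.Facts10
import Cfsg.Agent.Lib.J1Unique.CertT.Facts11
import Cfsg.Agent.Lib.J1Unique.CertT.Facts12
import Cfsg.Agent.Lib.J1Unique.CertT.Facts13
import Cfsg.Agent.Lib.J1Unique.CertT.Facts14
import Cfsg.Agent.Lib.J1Unique.CertT.Facts15
import Cfsg.Agent.Lib.J1Unique.CertT.Facts16
import Cfsg.Agent.Lib.J1Unique.CertT.Facts17
import Cfsg.Agent.Lib.J1Unique.CertT.Facts18
import Cfsg.Agent.Lib.J1Unique.CertT.Facts19
import Cfsg.Agent.Lib.J1Unique.CertT.Facts20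
import Cfsg.Agent.Lib.J1Unique.CertT.Facts21
import Cfsg.Agent.Lib.J1Unique.CertT.Facts22
import Cfsg.Agent.Lib.J1Unique.CertT.Facts23
import Cfsg.Agent.Lib.J1Unique.CertT.Facts24
import Cfsg.Agent.Lib.J1Unique.CertT.Facts25
import Cfsg.Agent.Lib.J1Unique.CertT.Rows

set_option autoImplicit false
set_option maxRecDepth 1000000

namespace CfsgLib.J1Unique.CertT

open CfsgLib.CosetEnum

theorem index_le {K : Type*} [Group K] [Finite K] (H : Subgroup K) (g : ℕ → K)
    (hg : J1Unique.GoodGens g) (hsub : ∀ w ∈ subWords, (w.map g).prod ∈ H)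
    (hrel : ∀ w ∈ relWords, (w.map g).prod = 1) : H.index ≤ 1463 := by
  refine J1Unique.index_le_of H g hg data rep 1463 50282 rfl (by decide +kernel) subWords relWords (by decide +kernel)
    hsub hrel ?_ ?_ (by decide) (by decide +kernel)
  · intro Ω base s hinv hinj hk hwh hwr
    have h0 : ∀ i < 0, data.Holds base s i := fun i hi => absurd hi (Nat.not_lt_zero i)
    have h1 := J1Unique.Data.gokChunk_sound hinv hinj hk hwh hwr just0 0 just0_ok h0
    rw [just0_len] at h1
    have h2 := J1Unique.Data.gokChunk_sound hinv hinj hk hwh hwr just1 2000 just1_ok h1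
    rw [just1_len] at h2
    have h3 := J1Unique.Data.gokChunk_sound hinv hinj hk hwh hwr just2 4000 just2_ok h2
    rw [just2_len] at h3
    have h4 := J1Unique.Data.gokChunk_sound hinv hinj hk hwh hwr just3 6000 just3_ok h3
    rw [just3_len] at h4
    have h5 := J1Unique.Data.gokChunk_sound hinv hinj hk hwh hwr just4 8000 just4_ok h4
    rw [just4_len] at h5
    have h6 := J1Unique.Data.gokChunk_sound hinv hinj hk hwh hwr just5 10000 just5_ok h5
    rw [just5_len] at h6
    have h7 := J1Unique.Data.gokChunk_sound hinv hinj hk hwh hwr just6 12000 just6_ok h6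
    rw [just6_len] at h7
    have h8 := J1Unique.Data.gokChunk_sound hinv hinj hk hwh hwr just7 14000 just7_ok h7
    rw [just7_len] at h8
    have h9 := J1Unique.Data.gokChunk_sound hinv hinj hk hwh hwr just8 16000 just8_ok h8
    rw [just8_len] at h9
    have h10 := J1Unique.Data.gokChunk_sound hinv hinj hk hwh hwr just9 18000 just9_ok h9
    rw [just9_len] at h10
    have h11 := J1Unique.Data.gokChunk_sound hinv hinj hk hwh hwr just10 20000 just10_ok h10
    rw [just10_len] at h11
    have h12 := J1Unique.Data.gokChunk_sound hinv hinj hk hwh hwr just11 22000 just11_ok h11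
    rw [just11_len] at h12
    have h13 := J1Unique.Data.gokChunk_sound hinv hinj hk hwh hwr just12 24000 just12_ok h12
    rw [just12_len] at h13
    have h14 := J1Unique.Data.gokChunk_sound hinv hinj hk hwh hwr just13 26000 just13_ok h13
    rw [just13_len] at h14
    have h15 := J1Unique.Data.gokChunk_sound hinv hinj hk hwh hwr just14 28000 just14_ok h14
    rw [just14_len] at h15
    have h16 := J1Unique.Data.gokChunk_sound hinv hinj hk hwh hwr just15 30000 just15_ok h15
    rw [just15_len] at h16
    have h17 := J1Unique.Data.gokChunk_sound hinv hinj hk hwh hwr just16 32000 just16_ok h16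
    rw [just16_len] at h17
    have h18 := J1Unique.Data.gokChunk_sound hinv hinj hk hwh hwr just17 34000 just17_ok h17
    rw [just17_len] at h18
    have h19 := J1Unique.Data.gokChunk_sound hinv hinj hk hwh hwr just18 36000 just18_ok h18
    rw [just18_len] at h19
    have h20 := J1Unique.Data.gokChunk_sound hinv hinj hk hwh hwr just19 38000 just19_ok h19
    rw [just19_len] at h20
    have h21 := J1Unique.Data.gokChunk_sound hinv hinj hk hwh hwr just20 40000 just20_ok h20
    rw [just20_len] at h21
    have h22 := J1Unique.Data.gokChunk_sound hinv hinj hk hwh hwr just21 42000 just21_ok h21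
    rw [just21_len] at h22
    have h23 := J1Unique.Data.gokChunk_sound hinv hinj hk hwh hwr just22 44000 just22_ok h22
    rw [just22_len] at h23
    have h24 := J1Unique.Data.gokChunk_sound hinv hinj hk hwh hwr just23 46000 just23_ok h23
    rw [just23_len] at h24
    have h25 := J1Unique.Data.gokChunk_sound hinv hinj hk hwh hwr just24 48000 just24_ok h24
    rw [just24_len] at h25
    have h26 := J1Unique.Data.gokChunk_sound hinv hinj hk hwh hwr just25 50000 just25_ok h25
    rw [just25_len] at h26
    exact h26
  · intro Ω base s hinv hh d hd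
    by_cases h0 : d < 500
    · exact J1Unique.Data.gokRows_sound hinv hh rows0 0 rows0_ok d (by omega) (by rw [rows0_len]; omega)
    by_cases h1 : d < 1000
    · exact J1Unique.Data.gokRows_sound hinv hh rows1 500 rows1_ok d (by omega) (by rw [rows1_len]; omega)
    exact J1Unique.Data.gokRows_sound hinv hh rows2 1000 rows2_ok d (by omega) (by rw [rows2_len]; omega)

end CfsgLib.J1Unique.CertT
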